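import Cfsg.Agent.H253.RC.T3Tools
import Cfsg.Agent.H393.RC.TriZ9
import Cfsg.Agent.H65.RC.ZN4
import Cfsg.Agent.H256.RC.ZBase

/-!
# S3510, triality of type iii: the alternative `G2` is dead (helper103)
-/

set_option autoImplicit false
open Cfsg

namespace Cfsg.Agent.H103.RC

open Module QuadraticMap MulAction
open Cfsg.Agent.LieClassical.OrthCore Cfsg.Agent.LieClassical.OrthTrans
open Cfsg.Agent.LieClassical.OrthSimple Cfsg.Agent.ClassicalGeometry.OrthSemi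
open Cfsg.Agent.ClassicalGeometry.OrthAut1 Cfsg.Agent.H106.RC Cfsg.Agent.H93.RC Cfsg.Agent.H566.RC
open Cfsg.Agent.LieClassical.QuadForms Cfsg.Agent.ClassicalGeometry.TrialityOct
open Cfsg.Agent.ClassicalGeometry.Triality Cfsg.Agent.ClassicalGeometry.TrialitySpaces
open Cfsg.Agent.H198.TriBase Cfsg.Agent.H198.TriAut Cfsg.Agent.H206.Balance Cfsg.Agent.H198.TriDia
open Cfsg.Agent.H198.TwComp Cfsg.Agent.H198 Cfsg.Agent.H864.RC

/-- an odd number `> 3`, not divisible by `9`, has a prime divisor `≥ 5` -/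
theorem exists_prime_ge {n : ℕ} (h1 : 3 < n) (h2 : ¬ 2 ∣ n) (h9 : ¬ 9 ∣ n) :
    ∃ l : ℕ, l.Prime ∧ l ≠ 2 ∧ l ≠ 3 ∧ l ∣ n := by
  by_cases h3 : 3 ∣ n
  · obtain ⟨m, rfl⟩ := h3
    have hm : m ≠ 1 := by omega
    obtain ⟨l, hl, hlm⟩ := Nat.exists_prime_and_dvd hm
    refine ⟨l, hl, ?_, ?_, hlm.trans (Dvd.intro_left _ rfl)⟩
    · rintro rfl
      exact h2 (hlm.trans (Dvd.intro_left _ rfl))
    · rintro rfl
      obtain ⟨k, rfl⟩ := hlm
      exact h9 ⟨k, by ring⟩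
  · obtain ⟨l, hl, hlm⟩ := Nat.exists_prime_and_dvd (show n ≠ 1 by omega)
    refine ⟨l, hl, ?_, ?_, hlm⟩
    · rintro rfl; exact h2 hlm
    · rintro rfl; exact h3 hlm

theorem num_plus (q : ℕ) : ¬ 2 ∣ q ^ 2 + q + 1 ∧ ¬ 9 ∣ q ^ 2 + q + 1 := by
  constructor
  · intro h
    have h1 : (q ^ 2 + q + 1) % 2 = 0 := Nat.mod_eq_zero_of_dvd h
    have h2 : q % 2 = 0 ∨ q % 2 = 1 := by omega
    rcases h2 with h2 | h2 <;> simp [Nat.pow_mod, Nat.add_mod, h2] at h1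
  · intro h
    have h1 : (q ^ 2 + q + 1) % 9 = 0 := Nat.mod_eq_zero_of_dvd h
    have h2 : q % 9 < 9 := Nat.mod_lt _ (by norm_num)
    rw [Nat.add_mod, Nat.add_mod (q ^ 2) q, Nat.pow_mod] at h1
    interval_cases hq : q % 9 <;> simp at h1

theorem num_minus {q : ℕ} (hq1 : 1 ≤ q) : ¬ 2 ∣ q ^ 2 - q + 1 ∧ ¬ 9 ∣ q ^ 2 - q + 1 := by
  obtain ⟨m, rfl⟩ : ∃ m, q = m + 1 := ⟨q - 1, by omega⟩
  have e : (m + 1) ^ 2 - (m + 1) + 1 = m ^ 2 + m + 1 := by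
    have : (m + 1) ^ 2 = m ^ 2 + m + (m + 1) := by ring
    omega
  rw [e]
  exact num_plus m

section env

variable {F : Type} [Field F] {G Ω ι : Type} [Group G] [MulAction G Ω] {N : Subgroup G} {hG : Good (plusForm 4 F)}
  {κ : P8 F →* G} {s : F ≃+* F} {x₁ : G} {x : ι → G} {r : ι → ℕ} {g : ι → (V8 F ≃ₗ[F] V8 F)}

/-- a prime `l` such that `AutD` has no element of order `l` but some element of `E Q` of order `l` commutes with the `g i` -/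
theorem dead_prime [Finite F] [Finite G] [Finite ι] (h : T3 hG N κ s Ω x₁ x r g)
    (hN : NoN Ω N) {l : ℕ} (hl : l.Prime) (hl2 : l ≠ 2)
    (hz : ∀ c : V8 F ≃ₗ[F] V8 F, c ∈ AutD (fG s) → c ^ l = 1 → c = 1)
    (hex : ∃ c ∈ E (plusForm 4 F), c ^ l = 1 ∧ c ≠ 1 ∧ ∀ i, c * g i = g i * c) : False := by
  have := Fact.mk hl
  by_cases hr : ∃ i, r i = l
  · obtain ⟨i, hi⟩ := hr
    exact h.ne1 i (hz _ (h.mem i) (hi ▸ h.pow i))
  · push Not at hr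
    obtain ⟨c, hcE, hcl, hc1, hcc⟩ := hex
    obtain ⟨d, hd, hd'⟩ := h.kl_lin hN hl (h.ir hN hl hr) (fun h' => absurd h' hl2) (Subgroup.zpowers c)
      (by
        intro y
        obtain ⟨k, hk⟩ := Subgroup.mem_zpowers_iff.1 y.2
        refine ⟨1, Subtype.ext ?_⟩
        rw [Subgroup.coe_pow, pow_one, ← hk, ← zpow_natCast, ← zpow_mul, mul_comm, zpow_mul, zpow_natCast, hcl, one_zpow]
        rfl)
      (by rwa [Subgroup.zpowers_le])
      (by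
        intro a ha i
        obtain ⟨k, rfl⟩ := Subgroup.mem_zpowers_iff.1 ha
        have h1 : Commute c (g i) := hcc i
        exact (h1.zpow_left k))
    have h1 := hd' c (Subgroup.mem_zpowers c)
    have h2 : (d * c * d⁻¹) ^ l = 1 := by rw [conj_pow, hcl, mul_one, mul_inv_cancel]
    have h3 := hz _ h1 h2
    apply hc1
    have h4 : c = d⁻¹ * (d * c * d⁻¹) * d := by group
    rw [h4, h3, mul_one, inv_mul_cancel]

/-- **(G2)** -/
theorem dead_G2 [Finite F] [Finite G] [Finite ι] [Nonempty Ω] (h : T3 hG N κ s Ω x₁ x r g)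
    (hN : NoN Ω N) (h2 : G2 g) : False := by
  obtain ⟨q0, hq0, hq, -, -, -⟩ := Cfsg.Agent.H256.RC.BQ h.cube h.ne
  obtain ⟨n, hn, hex⟩ := h2
  have h8 : 8 ≤ Nat.card F := by
    rw [hq]
    calc 8 = 2 ^ 3 := by norm_num
      _ ≤ q0 ^ 3 := Nat.pow_le_pow_left hq0 3
  rcases hn with hn | hn | hn
  · obtain ⟨k2, k9⟩ := num_plus (Nat.card F)
    obtain ⟨l, hl, hl2, hl3, hln⟩ := exists_prime_ge (n := n) (by rw [hn]; nlinarith) (by rw [hn]; exact k2)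
      (by rw [hn]; exact k9)
    exact dead_prime h hN hl hl2
      (fun c hc hcl => Cfsg.Agent.H393.TZ.ZN9 h.cube h.ne hc hl hl3 (Or.inl (hn ▸ hln)) hcl) (hex l hl hl2 hl3 hln)
  · obtain ⟨k2, k9⟩ := num_minus (q := Nat.card F) (by omega)
    obtain ⟨l, hl, hl2, hl3, hln⟩ := exists_prime_ge (n := n) (by
        rw [hn]
        have : Nat.card F + 3 < Nat.card F ^ 2 := by nlinarith
        omega) (by rw [hn]; exact k2)
      (by rw [hn]; exact k9)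
    exact dead_prime h hN hl hl2
      (fun c hc hcl => Cfsg.Agent.H393.TZ.ZN9 h.cube h.ne hc hl hl3 (Or.inr (hn ▸ hln)) hcl) (hex l hl hl2 hl3 hln)
  · -- `q² + 1`
    have hdvd : q0 ^ 2 + 1 ∣ n := by
      rw [hn, hq]
      refine ⟨q0 ^ 4 - q0 ^ 2 + 1, ?_⟩
      have h4 : q0 ^ 2 ≤ q0 ^ 4 := Nat.pow_le_pow_right (by omega) (by norm_num)
      zify [h4]
      ring
    obtain ⟨l, hl, hl2, hl3, hln⟩ : ∃ l : ℕ, l.Prime ∧ l ≠ 2 ∧ l ≠ 3 ∧ l ∣ q0 ^ 2 + 1 := by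
      have h3 : ¬ 3 ∣ q0 ^ 2 + 1 := by
        intro h
        have h1 : (q0 ^ 2 + 1) % 3 = 0 := Nat.mod_eq_zero_of_dvd h
        have h2 : q0 % 3 = 0 ∨ q0 % 3 = 1 ∨ q0 % 3 = 2 := by omega
        rcases h2 with h2 | h2 | h2 <;> simp [Nat.pow_mod, Nat.add_mod, h2] at h1
      have h4 : ¬ 4 ∣ q0 ^ 2 + 1 := by
        intro h
        have h1 : (q0 ^ 2 + 1) % 4 = 0 := Nat.mod_eq_zero_of_dvd h
        have h2 : q0 % 4 = 0 ∨ q0 % 4 = 1 ∨ q0 % 4 = 2 ∨ q0 % 4 = 3 := by omega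
        rcases h2 with h2 | h2 | h2 | h2 <;> simp [Nat.pow_mod, Nat.add_mod, h2] at h1
      have h5 : 4 < q0 ^ 2 + 1 := by nlinarith
      by_cases h6 : 2 ∣ q0 ^ 2 + 1
      · obtain ⟨m, hm⟩ := h6
        have hm1 : m ≠ 1 := by omega
        obtain ⟨l, hl, hlm⟩ := Nat.exists_prime_and_dvd hm1
        refine ⟨l, hl, ?_, ?_, hlm.trans (hm ▸ Dvd.intro_left _ rfl)⟩
        · rintro rfl
          obtain ⟨k, rfl⟩ := hlm
          exact h4 ⟨k, by rw [hm]; ring⟩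
        · rintro rfl
          exact h3 (hlm.trans (hm ▸ Dvd.intro_left _ rfl))
      · obtain ⟨l, hl, hlm⟩ := Nat.exists_prime_and_dvd (show q0 ^ 2 + 1 ≠ 1 by omega)
        refine ⟨l, hl, ?_, ?_, hlm⟩
        · rintro rfl; exact h6 hlm
        · rintro rfl; exact h3 hlm
    exact dead_prime h hN hl hl2
      (fun c hc hcl => Cfsg.Agent.H65.RC.ZN4 h.cube h.ne hq hc hl hl2 hln hcl) (hex l hl hl2 hl3 (hln.trans hdvd))

end env

end Cfsg.Agent.H103.RC
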