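import Cfsg.Agent.H103.RC.FixPair

/-!
# Fixed octonions of a commuting family of semisimple linear octonion automorphisms (helper103, S3510 triality, box iA)

* `fix_pair_family` : `fix_pair` for a commuting family of elements of different prime orders `≠ p`.
-/

set_option autoImplicit false

namespace Cfsg.Agent.H103.RC

open Module QuadraticMap Cfsg.Agent.LieClassical.OrthCore Cfsg.Agent.LieClassical.OrthTrans
  Cfsg.Agent.LieClassical.OrthSimple Cfsg.Agent.ClassicalGeometry.OrthAut1
  Cfsg.Agent.ClassicalGeometry.OrthSemi Cfsg.Agent.H198.Classes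
  Cfsg.Agent.LieClassical.QuadForms Cfsg.Agent.H198.ClassesPlus
  Cfsg.Agent.ClassicalGeometry.TrialityOct Cfsg.Agent.ClassicalGeometry.Triality
  Cfsg.Agent.ClassicalGeometry.TrialitySpaces Cfsg.Agent.H198.TriBase Cfsg.Agent.H198.TriAut
  Cfsg.Agent.H206.Balance Cfsg.Agent.H198.BalVar Cfsg.Agent.H198.TriDia Cfsg.Agent.H198.TriSpec
  Cfsg.Agent.H161.TriLin

universe u

/-- commuting elements of distinct prime orders lie in one cyclic group, of order dividing the product -/
theorem exists_gen' {G ι : Type*} [Group G] [Finite ι] (x : ι → G) (r : ι → ℕ)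
    (hr : ∀ i, (r i).Prime) (hinj : Function.Injective r) (hx : ∀ i, x i ^ r i = 1)
    (hc : ∀ i j, x i * x j = x j * x i) (P : ℕ → Prop) (hP1 : P 1) (hPm : ∀ i n, P n → P (n * r i)) :
    ∃ g ∈ Subgroup.closure (Set.range x), (∀ i, x i ∈ Subgroup.zpowers g) ∧ ∃ m, P m ∧ g ^ m = 1 := by
  classical
  cases nonempty_fintype ι
  have key : ∀ s : Finset ι, ∃ g ∈ Subgroup.closure (Set.range x), (∀ i ∈ s, x i ∈ Subgroup.zpowers g) ∧
      (orderOf g ∣ ∏ i ∈ s, r i) ∧ (∀ j, Commute g (x j)) ∧ P (∏ i ∈ s, r i) := by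
    intro s
    induction s using Finset.induction_on with
    | empty => exact ⟨1, Subgroup.one_mem _, by simp, by simp, fun j => Commute.one_left _, by simpa using hP1⟩
    | insert a s ha ih =>
      obtain ⟨g, hgc, hg1, hg2, hg3, hg4⟩ := ih
      have hcop : Nat.Coprime (orderOf g) (orderOf (x a)) := by
        have h1 : orderOf (x a) ∣ r a := orderOf_dvd_of_pow_eq_one (hx a)
        refine Nat.Coprime.coprime_dvd_left hg2 (Nat.Coprime.coprime_dvd_right h1 ?_)
        refine Nat.Coprime.prod_left fun i hi => ?_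
        rw [Nat.coprime_primes (hr i) (hr a)]
        intro h
        exact ha (hinj h ▸ hi)
      have hcomm : Commute g (x a) := hg3 a
      have hmem : g ∈ Subgroup.zpowers (g * x a) ∧ x a ∈ Subgroup.zpowers (g * x a) := by
        obtain ⟨k, hk⟩ := Nat.chineseRemainder hcop 1 0
        obtain ⟨l, hl⟩ := Nat.chineseRemainder hcop 0 1
        constructor
        · refine Subgroup.mem_zpowers_iff.2 ⟨(k : ℤ), ?_⟩
          rw [zpow_natCast, hcomm.mul_pow]
          have h1 : g ^ k = g := by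
            conv_rhs => rw [← pow_one g]
            exact pow_eq_pow_iff_modEq.2 hk.1
          have h2 : x a ^ k = 1 := by
            rw [← pow_zero (x a)]
            exact pow_eq_pow_iff_modEq.2 hk.2
          rw [h1, h2, mul_one]
        · refine Subgroup.mem_zpowers_iff.2 ⟨(l : ℤ), ?_⟩
          rw [zpow_natCast, hcomm.mul_pow]
          have h1 : g ^ l = 1 := by
            rw [← pow_zero g]
            exact pow_eq_pow_iff_modEq.2 hl.1
          have h2 : x a ^ l = x a := by
            conv_rhs => rw [← pow_one (x a)]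
            exact pow_eq_pow_iff_modEq.2 hl.2
          rw [h1, h2, one_mul]
      refine ⟨g * x a, Subgroup.mul_mem _ hgc (Subgroup.subset_closure ⟨a, rfl⟩), ?_, ?_, ?_, ?_⟩
      · intro i hi
        rcases Finset.mem_insert.1 hi with rfl | hi
        · exact hmem.2
        · exact (Subgroup.zpowers_le.2 hmem.1) (hg1 i hi)
      · rw [Finset.prod_insert ha, hcomm.orderOf_mul_eq_mul_orderOf_of_coprime hcop, mul_comm]
        exact Nat.mul_dvd_mul (orderOf_dvd_of_pow_eq_one (hx a)) hg2
      · intro j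
        exact Commute.mul_left (hg3 j) (hc a j)
      · rw [Finset.prod_insert ha, mul_comm]
        exact hPm a _ hg4
  obtain ⟨g, h1, h2, h3, -, h5⟩ := key Finset.univ
  exact ⟨g, h1, fun i => h2 i (Finset.mem_univ i), _, h5, orderOf_dvd_iff_pow_eq_one.1 h3⟩

variable {F : Type u} [Field F]

local notation "B" => polar (plusForm 4 F)

/-- the linear octonion automorphisms -/
def AutL (F : Type u) [Field F] : Subgroup (G8 F) where
  carrier := {M | TriS M M M ∧ IsLin M}
  one_mem' := ⟨TriS.one, ⟨1, ⟨one_ne_zero, fun _ _ => rfl, fun _ _ => rfl, fun v => by rw [one_mul]; rfl⟩⟩⟩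
  mul_mem' := by
    rintro M N ⟨h1, c, h2⟩ ⟨k1, d, k2⟩
    exact ⟨h1.mul k1, _, h2.mul k2⟩
  inv_mem' := by
    rintro M ⟨h1, c, h2⟩
    exact ⟨h1.inv, _, h2.inv⟩

/-- the stabilizer of a vector -/
def St (v : V8 F) : Subgroup (G8 F) where
  carrier := {M | M.1 v = v}
  one_mem' := rfl
  mul_mem' := by
    intro M N h k
    show M.1 (N.1 v) = v
    rw [show N.1 v = v from k]
    exact h
  inv_mem' := by
    intro M h
    show M.1.symm v = v
    rw [Equiv.symm_apply_eq]
    exact (show M.1 v = v from h).symm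

/-- **Box iA** for a family -/
theorem fix_pair_family [Finite F] (hG : Good (plusForm 4 F)) {ι : Type*} [Finite ι] (M : ι → G8 F) (r : ι → ℕ)
    (hM : ∀ j, TriS (M j) (M j) (M j)) (hl : ∀ j, IsLin (M j)) (hr : ∀ j, (r j).Prime) (hinj : Function.Injective r)
    (hp : ∀ j, (r j : F) ≠ 0) (hpow : ∀ j, M j ^ r j = 1) (hc : ∀ i j, M i * M j = M j * M i) :
    (∃ b : V8 F, (∀ j, (M j).1 b = b) ∧ plusForm 4 F b = 1 ∧ B b (one8 F) ^ 2 ≠ 4) ∨
    (Nat.card F ≤ 3 ∧ ∃ e : V8 F, (∀ j, (M j).1 e = e) ∧ omul e e = e ∧ plusForm 4 F e = 0 ∧ B e (one8 F) = 1 ∧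
      ∀ v : V8 F, (∀ j, (M j).1 v = v) → ∃ a c : F, v = a • one8 F + c • e) := by
  obtain ⟨s, hs, hz, m, hm, hsm⟩ := exists_gen' M r hr hinj hpow hc (fun n => (n : F) ≠ 0) (by simp)
    (fun i n h => by push_cast; exact mul_ne_zero h (hp i))
  have h1 : s ∈ AutL F := by
    refine (Subgroup.closure_le _).2 ?_ hs
    rintro _ ⟨j, rfl⟩
    exact ⟨hM j, hl j⟩
  have h2 : ∀ v : V8 F, s.1 v = v ↔ ∀ j, (M j).1 v = v := by
    intro v
    constructor
    · intro hv j
      exact (Subgroup.zpowers_le.2 (show s ∈ St v from hv)) (hz j)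
    · intro hv
      have h3 : Subgroup.closure (Set.range M) ≤ St v := by
        rw [Subgroup.closure_le]
        rintro _ ⟨j, rfl⟩
        exact hv j
      exact h3 hs
  rcases fix_pair hG h1.1 h1.2 hm hsm with ⟨b, hb, hb1, hb2⟩ | ⟨hq, e, he, hee, heq, het, hall⟩
  · exact Or.inl ⟨b, (h2 b).1 hb, hb1, hb2⟩
  · exact Or.inr ⟨hq, e, (h2 e).1 he, hee, heq, het, fun v hv => hall v ((h2 v).2 hv)⟩

end Cfsg.Agent.H103.RC
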