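import Cfsg.Agent.H198.TriCls
import Cfsg.Agent.H752.SemiNormal
import Cfsg.Agent.H256.RC.ZBase

/-!
# S3510 type iii, box INV, (B1): the stabiliser of `xt` is transitive on the idempotents (helper103)
-/

set_option autoImplicit false
open Cfsg

namespace Cfsg.Agent.H103.RC.InvD

open Module QuadraticMap MulAction
open Cfsg.Agent.LieClassical.OrthCore Cfsg.Agent.LieClassical.OrthTrans
open Cfsg.Agent.LieClassical.OrthSimple Cfsg.Agent.ClassicalGeometry.OrthSemi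
open Cfsg.Agent.ClassicalGeometry.OrthAut1
open Cfsg.Agent.LieClassical.QuadForms Cfsg.Agent.ClassicalGeometry.TrialityOct
open Cfsg.Agent.ClassicalGeometry.Triality Cfsg.Agent.ClassicalGeometry.TrialitySpaces
open Cfsg.Agent.H198.TriBase Cfsg.Agent.H198.TriAut Cfsg.Agent.H206.Balance Cfsg.Agent.H198.TriDia
open Cfsg.Agent.H198.TwComp Cfsg.Agent.H198 Cfsg.Agent.H198.TriTC Cfsg.Agent.H198.TriCls

variable {F : Type} [Field F]

/-- automorphisms of a finite field commute -/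
theorem field_comm [Finite F] (φ ψ : F ≃+* F) (x : F) : φ (ψ x) = ψ (φ x) := by
  by_cases hx : x = 0
  · simp [hx]
  obtain ⟨g, hg⟩ := IsCyclic.exists_generator (α := Fˣ)
  have key : ∀ θ : F ≃+* F, ∃ i : ℤ, ∀ y : Fˣ, θ y = ((y ^ i : Fˣ) : F) := by
    intro θ
    obtain ⟨i, hi⟩ := hg (Units.map (θ : F →* F) g)
    refine ⟨i, fun y => ?_⟩
    obtain ⟨k, hk⟩ := hg y
    have h1 : Units.map (θ : F →* F) y = y ^ i := by
      have hi' : g ^ i = Units.map (θ : F →* F) g := hi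
      have hk' : g ^ k = y := hk
      rw [← hk', map_zpow, ← hi', ← zpow_mul, ← zpow_mul, mul_comm]
    exact congrArg Units.val h1
  obtain ⟨i, hi⟩ := key φ
  obtain ⟨j, hj⟩ := key ψ
  have h1 := hi (Units.mk0 x hx)
  have h2 := hj (Units.mk0 x hx)
  rw [Units.val_mk0] at h1 h2
  rw [h2, hi, h1, hj, ← zpow_mul, ← zpow_mul, mul_comm]

theorem mo_fG (s : F ≃+* F) (u w : V8 F) : mo (fG s) (fG s) u w = dia (fG s) u w := by
  rw [mo, dia, aut_oconj (tri_fG s).inv]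

set_option maxHeartbeats 4000000 in
/-- the two steps of `classify_M` -/
theorem exists_B (hG : Good (plusForm 4 F)) {s : F ≃+* F} (h3 : ∀ a, s (s (s a)) = a) {e : V8 F} (he0 : e ≠ 0)
    (he : dia (fG s) e e = e) :
    ∃ D B : G8 F, D.1 e = one8 F ∧ TriS B B B ∧ Psi _ D * xt hG (fG s) * (Psi _ D)⁻¹ = Psi _ B * rho hG ∧
      B ^ 3 = 1 ∧ ∀ u w, mo B B (D.1 u) (D.1 w) = D.1 (dia (fG s) u w) := by
  have inv_apply : ∀ (N : G8 F) (x : V8 F), N⁻¹.1 (N.1 x) = x := fun N x => N.1.symm_apply_apply x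
  have hQe := (H256.RC.tc_fG h3).norm_idem he0 he
  have hne : plusForm 4 F e ≠ 0 := by rw [hQe]; exact one_ne_zero
  have hc3 : (Psi (plusForm 4 F) (fG s) * rho hG) ^ 3 = 1 := xt_pow_three hG (tri_fG s) (H256.RC.fG_cube h3)
  -- first step
  obtain ⟨A, A₁, A₂, hA, hA1, hA2, -⟩ := step hG (tri_fG s) (tri_lG e hne).inv
  set N := (lG e hne)⁻¹ with hN
  have hNe : N.1 e = one8 F := by
    have h1 : (lG e hne).1 (one8 F) = e := by rw [lG_apply, omul_one]
    have h2 := inv_apply (lG e hne) (one8 F)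
    rwa [h1] at h2
  have hAe : mo A A₂ (one8 F) (one8 F) = one8 F := by
    have := hA2 e e
    rwa [mo_fG, he, hNe] at this
  -- second step
  have ha : plusForm 4 F (A⁻¹.1 (one8 F)) ≠ 0 := by
    obtain ⟨σ', c', hs'⟩ := A⁻¹.2
    rw [hs'.form, norm_one8, map_one, mul_one]
    exact hs'.ne
  obtain ⟨N', N'₁, N'₂, hN', hN1, hN2⟩ := exists_N ha
  obtain ⟨B, B₁, B₂, hB, hB1, hB2, hB3⟩ := step hG hA hN'
  have hBe : mo B B₂ (one8 F) (one8 F) = one8 F := by
    have := hB2 (one8 F) (one8 F)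
    rwa [hAe, hN1] at this
  have hBi : B⁻¹.1 (one8 F) = one8 F := by
    have := hB3 (one8 F)
    rw [hN1, hN2] at this
    rw [this, oconj_one8]
  obtain ⟨hτ, hB2'⟩ := tri_of_one hB hBe hBi
  have hτ3 := pow_three_of hG hτ (gen_cj3 hB1 (gen_cj3 hA1 hc3))
  have hcj := gen_cj hA1 hB1
  refine ⟨N' * N, B, ?_, hτ, ?_, hτ3, fun u w => ?_⟩
  · change N'.1 (N.1 e) = _
    rw [hNe, hN1]
  · rw [map_mul (Psi (plusForm 4 F)) N' N]
    exact hcj
  · change mo B B (N'.1 (N.1 u)) (N'.1 (N.1 w)) = N'.1 (N.1 (dia (fG s) u w))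
    rw [hB2'] at hB2
    rw [hB2, hA2, mo_fG]

/-- the field automorphism of `B` -/
theorem field_B [Finite F] {s : F ≃+* F} {D B : G8 F} (hB : TriS B B B)
    (h : ∀ u w, mo B B (D.1 u) (D.1 w) = D.1 (dia (fG s) u w)) {e : V8 F} (he0 : e ≠ 0)
    (he : dia (fG s) e e = e) {σ : F ≃+* F} {c : F} (hs : IsSS (plusForm 4 F) σ c B.1) : σ = s := by
  obtain ⟨δ, d, hd⟩ := D.2
  have h1 : ∀ (k : F) (u w : V8 F), mo B B u (k • w) = σ k • mo B B u w := by
    intro k u w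
    have e1 : oconj (k • w) = k • oconj w := by coord8
    rw [mo, mo, e1, hs.smul, omul_smul]
  have h2 : ∀ (k : F) (u w : V8 F), dia (fG s) u (k • w) = s k • dia (fG s) u w := by
    intro k u w
    have e1 : oconj (k • w) = k • oconj w := by coord8
    have e2 : IsSS (plusForm 4 F) s 1 (fG s).1 := isSS_fP s
    have e3 : (fG s).1 (k • oconj w) = s k • (fG s).1 (oconj w) := e2.smul k (oconj w)
    rw [dia, dia, e1, e3, omul_smul]
  have key : ∀ k : F, σ (δ k) = δ (s k) := by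
    intro k
    have e1 := h e (k • e)
    rw [h2, he, hd.smul, h1, h, he, hd.smul] at e1
    have e2 : (σ (δ k) - δ (s k)) • D.1 e = 0 := by rw [sub_smul, e1, sub_self]
    rcases smul_eq_zero.1 e2 with h3 | h3
    · exact sub_eq_zero.1 h3
    · exfalso
      rw [← hd.map_zero] at h3
      exact he0 (D.1.injective h3)
  ext k
  obtain ⟨k', rfl⟩ := δ.surjective k
  rw [key, field_comm]

/-- (B1) the stabiliser of `xt` is transitive on the idempotents -/
theorem exists_D [Finite F] (hG : Good (plusForm 4 F)) {s : F ≃+* F} (h3 : ∀ a, s (s (s a)) = a)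
    (hne : s ≠ RingEquiv.refl F) {e : V8 F} (he0 : e ≠ 0) (he : dia (fG s) e e = e) :
    ∃ D : G8 F, D.1 e = one8 F ∧
      Psi (plusForm 4 F) D * xt hG (fG s) * (Psi (plusForm 4 F) D)⁻¹ = xt hG (fG s) ∧
      ∀ u w, D.1 (dia (fG s) u w) = dia (fG s) (D.1 u) (D.1 w) := by
  obtain ⟨D, B, hDe, hB, hcj, hB3, hm⟩ := exists_B hG h3 he0 he
  obtain ⟨σ, c, hs⟩ := B.2
  obtain rfl := aut_mult hB hs
  obtain rfl := field_B hB hm he0 he hs
  obtain ⟨N, hN, hNB⟩ := H752.SemiNormal.semi_normal hB hs hne hB3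
  have h1 : Psi _ N * (Psi _ B * rho hG) * (Psi _ N)⁻¹ = xt hG (fG σ) := by
    have := xt_conj hG B hN
    rw [hNB] at this
    exact this
  refine ⟨N * D, ?_, ?_, fun u w => ?_⟩
  · change N.1 (D.1 e) = _
    rw [hDe, aut_one hN]
  · rw [map_mul (Psi (plusForm 4 F)) N D]
    exact gen_cj hcj h1
  · change N.1 (D.1 (dia (fG σ) u w)) = dia (fG σ) (N.1 (D.1 u)) (N.1 (D.1 w))
    rw [← hm, ← hNB]
    have e1 : ∀ x, (N * B * N⁻¹).1 (N.1 x) = N.1 (B.1 x) := by
      intro x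
      change N.1 (B.1 (N.1.symm (N.1 x))) = _
      rw [Equiv.symm_apply_apply]
    have e2 : ∀ x, (N * B * N⁻¹)⁻¹.1 (N.1 x) = N.1 (B⁻¹.1 x) := by
      intro x
      have e3 : (N * B * N⁻¹)⁻¹ = N * B⁻¹ * N⁻¹ := by group
      rw [e3]
      change N.1 (B⁻¹.1 (N.1.symm (N.1 x))) = _
      rw [Equiv.symm_apply_apply]
    rw [dia, ← aut_oconj hN, ← aut_oconj hN, e1, e2, ← hN, mo, aut_oconj hB.inv]

end Cfsg.Agent.H103.RC.InvD
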