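import Cfsg.Agent.H864.RC.T3

/-!
# S3510 type iii, box INV, (B2): transport of the environment (helper103)
-/

set_option autoImplicit false
open Cfsg

namespace Cfsg.Agent.H103.RC.InvT

open Module QuadraticMap MulAction
open Cfsg.Agent.LieClassical.OrthCore Cfsg.Agent.LieClassical.OrthTrans
open Cfsg.Agent.LieClassical.OrthSimple Cfsg.Agent.ClassicalGeometry.OrthSemi
open Cfsg.Agent.ClassicalGeometry.OrthAut1 Cfsg.Agent.H106.RC Cfsg.Agent.H93.RC Cfsg.Agent.H566.RC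
open Cfsg.Agent.LieClassical.QuadForms Cfsg.Agent.ClassicalGeometry.TrialityOct
open Cfsg.Agent.ClassicalGeometry.Triality Cfsg.Agent.ClassicalGeometry.TrialitySpaces
open Cfsg.Agent.H198.TriBase Cfsg.Agent.H198.TriAut Cfsg.Agent.H206.Balance Cfsg.Agent.H198.TriDia
open Cfsg.Agent.H864.RC

variable {F : Type} [Field F]

theorem conjLin_mem_AutD {s : F ≃+* F} {D : G8 F}
    (hD2 : ∀ u w, D.1 (dia (fG s) u w) = dia (fG s) (D.1 u) (D.1 w)) {c : V8 F ≃ₗ[F] V8 F}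
    (hc : c ∈ AutD (fG s)) : conjLin D c ∈ AutD (fG s) := by
  refine ⟨conjLin_mem_E D hc.1, fun u w => ?_⟩
  obtain ⟨u, rfl⟩ := D.1.surjective u
  obtain ⟨w, rfl⟩ := D.1.surjective w
  rw [← hD2, conjLin_apply', conjLin_apply', conjLin_apply', hc.2, hD2]

theorem conjLin_pow (D : G8 F) (c : V8 F ≃ₗ[F] V8 F) (n : ℕ) : conjLin D (c ^ n) = conjLin D c ^ n := by
  induction n with
  | zero => rw [pow_zero, pow_zero, conjLin_one]
  | succ n ih => rw [pow_succ, pow_succ, conjLin_mul, ih]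

theorem rp_comp {G : Type} [Group G] {N : Subgroup G} {κ : P8 F →* G} (h : Rp (plusForm 4 F) N κ)
    (α : MulAut (P8 F)) : Rp (plusForm 4 F) N (κ.comp α.toMonoidHom) := by
  refine ⟨h.inj.comp α.injective, ?_⟩
  rw [← h.range]
  ext y
  constructor
  · rintro ⟨a, rfl⟩
    exact ⟨α a, rfl⟩
  · rintro ⟨a, rfl⟩
    refine ⟨α.symm a, ?_⟩
    change κ (α (α.symm a)) = κ a
    rw [MulEquiv.apply_symm_apply]

section env
variable {G Ω ι : Type} [Group G] [MulAction G Ω] {N : Subgroup G} {hG : Good (plusForm 4 F)}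
  {κ : P8 F →* G} {s : F ≃+* F} {x₁ : G} {x : ι → G} {r : ι → ℕ} {g : ι → (V8 F ≃ₗ[F] V8 F)}

/-- (B2) transport of the environment -/
theorem transport (h : T3 hG N κ s Ω x₁ x r g) {D : G8 F}
    (hD : Psi (plusForm 4 F) D * xt hG (fG s) * (Psi (plusForm 4 F) D)⁻¹ = xt hG (fG s))
    (hD2 : ∀ u w, D.1 (dia (fG s) u w) = dia (fG s) (D.1 u) (D.1 w)) :
    ∃ (κ' : P8 F →* G) (g' : ι → (V8 F ≃ₗ[F] V8 F)), T3 hG N κ' s Ω x₁ x r g' ∧
      ∀ i v, g' i (D.1 v) = D.1 (g i v) := by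
  have hrp := rp_comp h.rp ((Psi (plusForm 4 F) D)⁻¹ : MulAut (P8 F))
  have hm : ∀ i, conjLin D (g i) ∈ AutD (fG s) := fun i => conjLin_mem_AutD hD2 (h.mem i)
  refine ⟨κ.comp ((Psi (plusForm 4 F) D)⁻¹ : MulAut (P8 F)).toMonoidHom, fun i => conjLin D (g i), ?_,
    fun i v => conjLin_apply' D (g i) v⟩
  refine ⟨h.env, hrp, h.cube, h.ne, ?_, h.prime, h.inj, h.three, hm, ?_, ?_, ?_, ?_, h.cov⟩
  · intro a
    change x₁ * κ ((Psi (plusForm 4 F) D)⁻¹ a) * x₁⁻¹ = κ ((Psi (plusForm 4 F) D)⁻¹ (xt hG (fG s) a))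
    rw [h.tri]
    congr 1
    have e1 : (Psi (plusForm 4 F) D)⁻¹ * xt hG (fG s) = xt hG (fG s) * (Psi (plusForm 4 F) D)⁻¹ := by
      rw [inv_mul_eq_iff_eq_mul, ← mul_assoc, hD]
    exact (congrArg (fun z : MulAut (P8 F) => z a) e1).symm
  · intro i
    change x i = κ ((Psi (plusForm 4 F) D)⁻¹ (((⟨conjLin D (g i), (hm i).1⟩ : ↥(E (plusForm 4 F))) : P8 F)))
    rw [h.lift]
    congr 1
    rw [mkD_apply]
    have e1 := Psi_mk D (⟨g i, (h.mem i).1⟩ : ↥(E (plusForm 4 F)))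
    have e2 : (Psi (plusForm 4 F) D)⁻¹ ((Psi (plusForm 4 F) D)
        ((⟨g i, (h.mem i).1⟩ : ↥(E (plusForm 4 F))) : P8 F)) = ((⟨g i, (h.mem i).1⟩ : ↥(E (plusForm 4 F))) : P8 F) := by
      rw [← MulAut.mul_apply, inv_mul_cancel]
      rfl
    rw [e1] at e2
    exact e2.symm
  · intro i
    rw [← conjLin_pow, h.pow, conjLin_one]
  · intro i hi
    apply h.ne1 i
    apply LinearEquiv.ext
    intro v
    have e1 := conjLin_apply' D (g i) v
    rw [hi] at e1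
    exact (D.1.injective e1).symm
  · intro i j
    rw [← conjLin_mul, ← conjLin_mul, h.comm]

end env

end Cfsg.Agent.H103.RC.InvT
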