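import Cfsg.Agent.H103.RC.FixPair
import Cfsg.Agent.H208.SgAut
import Cfsg.Agent.H566.RC.TriFrame
import Cfsg.Agent.H380.RC.Rules

/-!
# S3510, triality, type (i): `{long root element} ∪ {x₁}` is never a cover (helper103, box iK)

`x₁` induces the triality automorphism `ρ`, `Sp u w` a special pair, `u`, `w` independent.

* `exists_std` : a vector `n ≠ 0` with `n² = 0` is moved by a linear octonion automorphism to `(0, a, b, c; 0, 0, 0, 0)`;
* `exists_s` : for such `n` there is `s ∈ E Q`, commuting with all `sg (n, w)`, with `Ψ(s) (ρ Ψ(s) ρ⁻¹)⁻¹ = Ψ(bG (1 - n))`;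
* `comm_bG_rG` : `[bG (1 - u), rG (1 + w)] = (sg (u, w))⁻¹`;
* `sg_mem_cmm` : `σ (sg h) ∈ [U, x₁]`, `U` the centraliser of `σ (sg h)`;
* `kill_i` : no cover.
-/

set_option autoImplicit false

namespace Cfsg.Agent.H103.RC

open Module QuadraticMap Cfsg.Agent.LieClassical.OrthCore Cfsg.Agent.LieClassical.OrthTrans
  Cfsg.Agent.LieClassical.OrthSimple Cfsg.Agent.ClassicalGeometry.OrthAut1
  Cfsg.Agent.ClassicalGeometry.OrthSemi Cfsg.Agent.H198.Classes
  Cfsg.Agent.LieClassical.QuadForms Cfsg.Agent.H198.ClassesPlus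
  Cfsg.Agent.ClassicalGeometry.TrialityOct Cfsg.Agent.ClassicalGeometry.Triality
  Cfsg.Agent.ClassicalGeometry.TrialitySpaces Cfsg.Agent.H198.TriBase Cfsg.Agent.H198.TriAut
  Cfsg.Agent.H206.Balance Cfsg.Agent.H198.BalVar Cfsg.Agent.H198.TriDia Cfsg.Agent.H198.TriSpec
  Cfsg.Agent.H161.TriLin Cfsg.Agent.H566.RC Cfsg.Agent.H106.RC Cfsg.Agent.H93.RC Cfsg.Agent.H380.RC
  MulAction

universe u

section oct

variable {F : Type u} [Field F]

local notation "B" => polar (plusForm 4 F)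

theorem pl_omul (x y : V8 F) : B (omul x (oconj y)) (one8 F) = B x y := by
  rw [polar8, polar8]
  simp only [omul_l0, omul_l1, omul_l2, omul_l3, omul_r0, omul_r1, omul_r2, omul_r3,
    oconj_l0, oconj_l1, oconj_l2, oconj_l3, oconj_r0, oconj_r1, oconj_r2, oconj_r3, one8, Sum.elim_inl, Sum.elim_inr,
      Matrix.cons_val_zero, Matrix.cons_val_one, Matrix.cons_val]
  ring

theorem pl_adj (z x w : V8 F) : B z (omul x w) = B (omul z (oconj w)) x := by
  rw [polar8, polar8]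
  simp only [omul_l0, omul_l1, omul_l2, omul_l3, omul_r0, omul_r1, omul_r2, omul_r3,
    oconj_l0, oconj_l1, oconj_l2, oconj_l3, oconj_r0, oconj_r1, oconj_r2, oconj_r3]
  ring

theorem pl_sq (w x : V8 F) : B w (omul x w) = plusForm 4 F w * B x (one8 F) := by
  rw [polar8, polar8, norm8]
  simp only [omul_l0, omul_l1, omul_l2, omul_l3, omul_r0, omul_r1, omul_r2, omul_r3,
    oconj_l0, oconj_l1, oconj_l2, oconj_l3, oconj_r0, oconj_r1, oconj_r2, oconj_r3, one8, Sum.elim_inl, Sum.elim_inr,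
      Matrix.cons_val_zero, Matrix.cons_val_one, Matrix.cons_val]
  ring

theorem pl_tr {n : V8 F} (hn : omul n n = 0) : B n (one8 F) = 0 := by
  have := tr_of_sq hn
  rw [polar8]
  simp only [one8, Sum.elim_inl, Sum.elim_inr, Matrix.cons_val_zero, Matrix.cons_val_one, Matrix.cons_val]
  linear_combination this

theorem oconj_of_sq {n : V8 F} (hn : omul n n = 0) : oconj n = -n := by
  rw [oconj_eq, pl_tr hn, zero_smul, zero_sub]

/-- the standard idempotent -/
def e0 (F : Type u) [Field F] : V8 F := Sum.elim ![1, 0, 0, 0] ![0, 0, 0, 0]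

/-- the standard vectors of square zero -/
def n0 (a b c : F) : V8 F := Sum.elim ![0, a, b, c] ![0, 0, 0, 0]

/-- a vector of square zero is moved into standard position -/
theorem exists_std {n : V8 F} (hn0 : n ≠ 0) (hn : omul n n = 0) :
    ∃ (τ : G8 F) (a b c : F), TriS τ τ τ ∧ H198.TriDia.IsLin τ ∧ τ.1 n = n0 a b c := by
  have hq := norm_of_sq hn
  obtain ⟨x, hx⟩ : ∃ x, B n x = 1 := by
    obtain ⟨y, hy⟩ : ∃ y, B n y ≠ 0 := by
      by_contra hcon
      push Not at hcon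
      exact hn0 (polar_plusForm_nondeg 4 n hcon)
    exact ⟨(B n y)⁻¹ • y, by rw [pl_smul, inv_mul_cancel₀ hy]⟩
  set e := omul n (oconj x) with he
  have h1 : B e (one8 F) = 1 := by rw [he, pl_omul, hx]
  have h2 : plusForm 4 F e = 0 := by rw [he, norm_omul, hq, zero_mul]
  have h3 : omul e n = n := by rw [he, omul_oconj_omul_self, hx, hq, one_smul, zero_smul, sub_zero]
  have h4 : omul n e = 0 := by
    have e1 := oconj_omul_omul n (oconj x)
    rw [oconj_of_sq hn, hq, zero_smul] at e1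
    have e2 : omul (-n) (omul n (oconj x)) = -omul n (omul n (oconj x)) := by
      have := smul_omul (-1 : F) n (omul n (oconj x))
      rwa [neg_one_smul, neg_one_smul] at this
    rw [e2] at e1
    rw [he]
    exact neg_eq_zero.1 e1
  have h1' : H161.Oct.tr (phi F e) = 1 := by
    have e1 : H161.Oct.tr (phi F e) = e (.inl 0) + e (.inr 0) := rfl
    rw [e1]
    rw [polar8] at h1
    simp only [one8, Sum.elim_inl, Sum.elim_inr, Matrix.cons_val_zero, Matrix.cons_val_one, Matrix.cons_val] at h1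
    linear_combination h1
  obtain ⟨h, hh, hhe⟩ := H161.Oct.exists_idem (K := F) (e := phi F e) h1' (by rw [nm_phi, h2])
  have he' : (mkG hh).1 e = e0 F := by
    show (phi F).symm (h (phi F e)) = e0 F
    rw [hhe, LinearEquiv.symm_apply_eq]
    apply H161.Oct.ext8 <;> simp [phi_apply, e0, H161.Oct.e1]
  have k3 : omul (e0 F) ((mkG hh).1 n) = (mkG hh).1 n := by
    conv_rhs => rw [← h3, tri_mkG hh, he']
  have k4 : omul ((mkG hh).1 n) (e0 F) = 0 := by
    rw [← he', ← tri_mkG hh, h4]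
    exact (isSS_mkP hh).map_zero
  set m := (mkG hh).1 n with hm
  refine ⟨mkG hh, m (.inl 1), m (.inl 2), m (.inl 3), tri_mkG hh, ⟨1, isSS_mkP hh⟩, ?_⟩
  have c0 := congrFun k4 (.inl 0)
  have c1 := congrFun k3 (.inr 0)
  have c2 := congrFun k3 (.inr 1)
  have c3 := congrFun k3 (.inr 2)
  have c4 := congrFun k3 (.inr 3)
  simp only [omul_l0, omul_l1, omul_l2, omul_l3, omul_r0, omul_r1, omul_r2, omul_r3, e0, Sum.elim_inl, Sum.elim_inr,
      Matrix.cons_val_zero, Matrix.cons_val_one, Matrix.cons_val, Pi.zero_apply] at c0 c1 c2 c3 c4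
  apply ext8
  · show m (.inl 0) = 0
    linear_combination c0
  · rfl
  · rfl
  · rfl
  · show m (.inr 0) = 0
    linear_combination -c1
  · show m (.inr 1) = 0
    linear_combination -c2
  · show m (.inr 2) = 0
    linear_combination -c3
  · show m (.inr 3) = 0
    linear_combination -c4

theorem n0_q (a b c : F) : plusForm 4 F (n0 a b c) = 0 := by
  rw [norm8]
  simp [n0]

theorem n0_e0 (a b c : F) : B (n0 a b c) (e0 F) = 0 := by
  rw [polar8]
  simp [n0, e0]

/-- the Siegel element of `n0`, `e0` -/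
noncomputable def s0 (a b c : F) : ↥(E (plusForm 4 F)) :=
  ⟨siegel (plusForm 4 F) (n0 a b c) (e0 F) (n0_q a b c) (n0_e0 a b c), siegel_mem_E _ _⟩

theorem s0_apply (a b c : F) (x : V8 F) : (s0 a b c : V8 F ≃ₗ[F] V8 F) x =
    x + B (n0 a b c) x • e0 F - B (e0 F) x • n0 a b c := by
  change siegel (plusForm 4 F) (n0 a b c) (e0 F) (n0_q a b c) (n0_e0 a b c) x = _
  rw [siegel_apply]
  have : plusForm 4 F (e0 F) = 0 := by rw [norm8]; simp [e0]
  rw [this, zero_mul, zero_smul, sub_zero]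

/-- the third component -/
def g0P (a b c : F) : Equiv.Perm (V8 F) where
  toFun x := x - omul (omul x (n0 a b c)) (e0 F)
  invFun x := x + omul (omul x (n0 a b c)) (e0 F)
  left_inv x := by
    apply ext8 <;>
    simp [omul_l0, omul_l1, omul_l2, omul_l3, omul_r0, omul_r1, omul_r2, omul_r3, n0, e0] <;> ring
  right_inv x := by
    apply ext8 <;>
    simp [omul_l0, omul_l1, omul_l2, omul_l3, omul_r0, omul_r1, omul_r2, omul_r3, n0, e0] <;> ring

theorem isSS_g0P (a b c : F) : IsSS (plusForm 4 F) (RingEquiv.refl F) 1 (g0P a b c) := by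
  refine ⟨one_ne_zero, fun x y => ?_, fun t x => ?_, fun x => ?_⟩
  · apply ext8 <;>
    simp [g0P, omul_l0, omul_l1, omul_l2, omul_l3, omul_r0, omul_r1, omul_r2, omul_r3, n0, e0] <;> ring
  · apply ext8 <;>
    simp [g0P, omul_l0, omul_l1, omul_l2, omul_l3, omul_r0, omul_r1, omul_r2, omul_r3, n0, e0] <;> ring
  · rw [norm8, norm8]
    simp [g0P, omul_l0, omul_l1, omul_l2, omul_l3, omul_r0, omul_r1, omul_r2, omul_r3, n0, e0]
    ring

/-- the third component as a similarity -/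
def g0 (a b c : F) : G8 F := ⟨g0P a b c, _, _, isSS_g0P a b c⟩

theorem tri_s0 (a b c : F) : TriS (tg (plusForm 4 F) (s0 a b c)) (tg (plusForm 4 F) (s0 a b c)) (g0 a b c) := by
  intro x y
  rw [tg_apply, tg_apply, s0_apply, s0_apply]
  show _ = omul _ (y - omul (omul y (n0 a b c)) (e0 F))
  rw [polar8, polar8, polar8, polar8]
  apply ext8 <;>
  simp [omul_l0, omul_l1, omul_l2, omul_l3, omul_r0, omul_r1, omul_r2, omul_r3, n0, e0] <;> ring

theorem one_sub_q {n : V8 F} (hn : omul n n = 0) : plusForm 4 F (one8 F - n) = 1 := by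
  have h := q_add (one8 F) (-n)
  rw [← sub_eq_add_neg] at h
  have h1 : plusForm 4 F (-n) = plusForm 4 F n := QuadraticMap.map_neg _ n
  have h2 : B (one8 F) (-n) = 0 := by
    have := pl_smul (-1 : F) (one8 F) n
    rw [neg_one_smul] at this
    rw [this, pl_comm, pl_tr hn, mul_zero]
  rw [h, norm_one8, h1, norm_of_sq hn, h2]; ring

theorem one_add_q {n : V8 F} (hn : omul n n = 0) : plusForm 4 F (one8 F + n) = 1 := by
  rw [q_add, norm_one8, norm_of_sq hn, pl_comm, pl_tr hn]; ring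

theorem ne_zero_of_eq_one {a : F} (h : a = 1) : a ≠ 0 := by rw [h]; exact one_ne_zero

theorem n0_sq (a b c : F) : omul (n0 a b c) (n0 a b c) = 0 := by
  apply ext8 <;>
  simp [omul_l0, omul_l1, omul_l2, omul_l3, omul_r0, omul_r1, omul_r2, omul_r3, n0] <;> ring

/-- the basic identity in standard position -/
theorem s0_eq (a b c : F) : tg (plusForm 4 F) (s0 a b c) =
    bG (one8 F - n0 a b c) (ne_zero_of_eq_one (one_sub_q (n0_sq a b c))) *
      (kapG F * tg (plusForm 4 F) (s0 a b c) * kapG F) := by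
  apply Subtype.ext
  apply Equiv.ext
  intro x
  show (s0 a b c : V8 F ≃ₗ[F] V8 F) x =
    omul (omul (one8 F - n0 a b c) (oconj ((s0 a b c : V8 F ≃ₗ[F] V8 F) (oconj x)))) (one8 F - n0 a b c)
  rw [s0_apply, s0_apply, polar8, polar8, polar8, polar8]
  apply ext8 <;>
  simp [omul_l0, omul_l1, omul_l2, omul_l3, omul_r0, omul_r1, omul_r2, omul_r3, n0, e0, one8,
    oconj_l0, oconj_l1, oconj_l2, oconj_l3, oconj_r0, oconj_r1, oconj_r2, oconj_r3] <;> ring

/-- `Ψ(s) (ρ Ψ(s) ρ⁻¹)⁻¹ = Ψ(bG (1 - n))` in standard position -/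
theorem s0_rho (hG : Good (plusForm 4 F)) (a b c : F) :
    Psi (plusForm 4 F) (tg _ (s0 a b c)) * (rho hG * Psi (plusForm 4 F) (tg _ (s0 a b c)) * (rho hG)⁻¹)⁻¹ =
      Psi (plusForm 4 F) (bG (one8 F - n0 a b c) (ne_zero_of_eq_one (one_sub_q (n0_sq a b c)))) := by
  rw [rho_conj hG (tri_s0 a b c), mul_inv_eq_iff_eq_mul, ← map_mul, ← s0_eq]

/-- `τ bG(a) τ⁻¹ = bG (τ a)` -/
theorem conj_bG {τ : G8 F} (hτ : TriS τ τ τ) {a : V8 F} (ha : plusForm 4 F a ≠ 0) (ha' : plusForm 4 F (τ.1 a) ≠ 0) :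
    τ * bG a ha * τ⁻¹ = bG (τ.1 a) ha' := by
  rw [mul_inv_eq_iff_eq_mul]
  apply Subtype.ext
  apply Equiv.ext
  intro x
  show τ.1 (omul (omul a x) a) = omul (omul (τ.1 a) (τ.1 x)) (τ.1 a)
  rw [hτ, hτ]

/-- for `n ≠ 0`, `n² = 0` -/
theorem exists_s (hG : Good (plusForm 4 F)) {n : V8 F} (hn0 : n ≠ 0) (hn : omul n n = 0) :
    ∃ s : ↥(E (plusForm 4 F)), (∀ (w : V8 F) (h : Sp n w), s * sg h = sg h * s) ∧
      Psi (plusForm 4 F) (tg _ s) * (rho hG * Psi (plusForm 4 F) (tg _ s) * (rho hG)⁻¹)⁻¹ =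
        Psi (plusForm 4 F) (bG (one8 F - n) (ne_zero_of_eq_one (one_sub_q hn))) := by
  obtain ⟨τ, a, b, c, hτ, hl, hτn⟩ := exists_std hn0 hn
  have hss := aut_ss hτ hl
  refine ⟨conjE (plusForm 4 F) τ⁻¹ (s0 a b c), ?_, ?_⟩
  · intro w h
    have h' : Sp (n0 a b c) (τ.1 w) := hτn ▸ h.map hτ
    have e1 : conjE (plusForm 4 F) τ (sg h) = sg h' := by
      apply Subtype.ext
      apply LinearEquiv.ext
      intro x
      obtain ⟨x, rfl⟩ := τ.1.surjective x
      rw [coe_conjE, conjLin_apply', sg_apply, sg_apply, hss.add, hss.sub, hss.smul, hss.smul, ← hτn,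
        aut_pl hτ hl, aut_pl hτ hl]
      rfl
    have e2 : sg h = conjE (plusForm 4 F) τ⁻¹ (sg h') := by
      rw [← e1, ← MulAut.mul_apply, ← map_mul, inv_mul_cancel, map_one]; rfl
    have e3 : s0 a b c * sg h' = sg h' * s0 a b c := by
      apply Subtype.ext
      have hp1 := n0_e0 (F := F) a b c
      have hp2 := polar_of_sp h'
      have hp3 : B (n0 a b c) (e0 F + τ.1 w) = 0 := by rw [pl_add, hp1, hp2, add_zero]
      have hp4 : B (n0 a b c) (τ.1 w + e0 F) = 0 := by rw [pl_add, hp1, hp2, add_zero]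
      have m1 := siegel_mul (n0_q a b c) hp1 hp2 hp3
      have m2 := siegel_mul (n0_q a b c) hp2 hp1 hp4
      have m3 : siegel (plusForm 4 F) (n0 a b c) (e0 F + τ.1 w) (n0_q a b c) hp3 =
          siegel (plusForm 4 F) (n0 a b c) (τ.1 w + e0 F) (n0_q a b c) hp4 := by
        congr 1
        exact add_comm _ _
      exact m1.trans (m3.trans m2.symm)
    rw [e2, ← map_mul, ← map_mul, e3]
  · have hk : tg (plusForm 4 F) (conjE (plusForm 4 F) τ⁻¹ (s0 a b c)) = τ⁻¹ * tg _ (s0 a b c) * τ := by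
      apply Subtype.ext
      apply Equiv.ext
      intro x
      rw [tg_apply, coe_conjE, conjLin_apply]
      rfl
    have hb : bG (one8 F - n) (ne_zero_of_eq_one (one_sub_q hn)) =
        τ⁻¹ * bG (one8 F - n0 a b c) (ne_zero_of_eq_one (one_sub_q (n0_sq a b c))) * τ := by
      have e1 : τ.1 (one8 F - n) = one8 F - n0 a b c := by rw [hss.sub, aut_one hτ, hτn]
      have e2 := conj_bG hτ (ne_zero_of_eq_one (one_sub_q hn)) (ne_zero_of_eq_one (by rw [e1]; exact one_sub_q (n0_sq a b c)))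
      have e3 : bG (τ.1 (one8 F - n)) (ne_zero_of_eq_one (by rw [e1]; exact one_sub_q (n0_sq a b c))) =
          bG (one8 F - n0 a b c) (ne_zero_of_eq_one (one_sub_q (n0_sq a b c))) := by
        congr 1
      rw [← e3, ← e2]
      group
    have hc : rho hG * Psi (plusForm 4 F) τ = Psi (plusForm 4 F) τ * rho hG := rho_comm hG hτ
    have h0 := s0_rho hG a b c
    rw [hk, hb, map_mul, map_mul, map_mul, map_mul, map_inv, ← h0]
    generalize Psi (plusForm 4 F) (tg _ (s0 a b c)) = M at *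
    generalize Psi (plusForm 4 F) τ = T at *
    generalize rho hG = r at *
    have hc2 : T⁻¹ * r = r * T⁻¹ := by
      rw [inv_mul_eq_iff_eq_mul, ← mul_assoc, ← hc, mul_assoc, mul_inv_cancel, mul_one]
    have hc3 : r * (T⁻¹ * M * T) * r⁻¹ = T⁻¹ * (r * M * r⁻¹) * T := by
      calc r * (T⁻¹ * M * T) * r⁻¹ = (r * T⁻¹) * M * (T * r⁻¹) := by group
        _ = (T⁻¹ * r) * M * (r⁻¹ * (r * T) * r⁻¹) := by rw [hc2]; group
        _ = (T⁻¹ * r) * M * (r⁻¹ * (T * r) * r⁻¹) := by rw [hc]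
        _ = T⁻¹ * (r * M * r⁻¹) * T := by group
    rw [hc3]
    group

/-- `κ lG(1 - w) κ = rG (1 + w)` -/
theorem kap_lG {w : V8 F} (hw : omul w w = 0) : kapG F * lG (one8 F - w) (ne_zero_of_eq_one (one_sub_q hw)) * kapG F =
    rG (one8 F + w) (ne_zero_of_eq_one (one_add_q hw)) := by
  apply Subtype.ext
  apply Equiv.ext
  intro x
  show oconj (omul (one8 F - w) (oconj x)) = omul x (one8 F + w)
  rw [oconj_omul, oconj_oconj]
  congr 1
  have h1 : oconj (one8 F - w) = oconj (one8 F) - oconj w := by coord8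
  rw [h1, oconj_one8, oconj_of_sq hw, sub_neg_eq_add]

/-- the formula of `bG (1 - u)` -/
theorem bG_formula {n : V8 F} (hn : omul n n = 0) (x : V8 F) : omul (omul (one8 F - n) x) (one8 F - n) =
    x + B n x • one8 F - B x (one8 F) • n - B n x • n := by
  have h1 := omul_oconj_omul_self (one8 F - n) (oconj x)
  rw [oconj_oconj] at h1
  rw [h1, one_sub_q hn, one_smul, oconj_eq, pl_sub_left, pl_sub, pl_sub, pl_smul, pl_smul, pl_one_one, pl_tr hn,
    pl_comm (one8 F) x]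
  module

/-- the commutator identity -/
theorem comm_bG_rG {u w : V8 F} (h : Sp u w) :
    tg (plusForm 4 F) (sg h) * (bG (one8 F - u) (ne_zero_of_eq_one (one_sub_q h.uu)) *
      rG (one8 F + w) (ne_zero_of_eq_one (one_add_q h.ww))) =
    rG (one8 F + w) (ne_zero_of_eq_one (one_add_q h.ww)) * bG (one8 F - u) (ne_zero_of_eq_one (one_sub_q h.uu)) := by
  apply Subtype.ext
  apply Equiv.ext
  intro x
  show (sg h : V8 F ≃ₗ[F] V8 F) (omul (omul (one8 F - u) (omul x (one8 F + w))) (one8 F - u)) =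
    omul (omul (omul (one8 F - u) x) (one8 F - u)) (one8 F + w)
  have hq1 := norm_of_sq h.uu
  have hq2 := norm_of_sq h.ww
  have a1 : omul x (one8 F + w) = x + omul x w := by rw [omul_add, omul_one]
  have p1 : B u (omul x w) = 0 := by
    rw [pl_adj, oconj_of_sq h.ww]
    have e : omul u (-w) = 0 := by
      have := omul_smul (-1 : F) u w
      rw [neg_one_smul, h.uw, smul_zero] at this
      exact this
    rw [e]
    have := pl_smul_left 0 (0 : V8 F) x
    rwa [zero_smul, zero_mul] at this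
  have p2 : B w (omul x w) = 0 := by rw [pl_sq, hq2, zero_mul]
  have p3 : B (omul x w) (one8 F) = - B w x := by
    have e := pl_omul x (oconj w)
    rw [oconj_oconj, oconj_of_sq h.ww] at e
    rw [e, pl_comm x (-w)]
    have := pl_smul_left (-1 : F) w x
    rw [neg_one_smul] at this
    rw [this]; ring
  have p4 : B u u = 0 := by rw [pl_self, hq1, mul_zero]
  have p5 : B w w = 0 := by rw [pl_self, hq2, mul_zero]
  have p6 : B w u = 0 := by rw [pl_comm]; exact polar_of_sp h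
  have p7 : B u (one8 F) = 0 := pl_tr h.uu
  have p8 : B w (one8 F) = 0 := pl_tr h.ww
  rw [a1, bG_formula h.uu, bG_formula h.uu, sg_apply]
  have a2 : omul (x + B u x • one8 F - B x (one8 F) • u - B u x • u) (one8 F + w) =
      x + B u x • one8 F - B x (one8 F) • u - B u x • u + (omul x w + B u x • w) := by
    rw [omul_add, omul_one]
    congr 1
    rw [sub_eq_add_neg, sub_eq_add_neg, add_omul, add_omul, add_omul, smul_omul, one_omul, ← neg_smul, ← neg_smul,
      smul_omul, smul_omul, h.uw, smul_zero, smul_zero, add_zero, add_zero]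
  rw [a2]
  simp only [pl_add, pl_add_left, pl_sub, pl_sub_left, pl_smul, pl_smul_left, p1, p2, p3, p4, p5, p6, p7, p8]
  module

end oct

section kill

variable {F : Type u} [Field F] {G Ω : Type*} [Group G] [MulAction G Ω] {N : Subgroup G} {σ : P8 F →* G}

theorem sp_symm {u w : V8 F} (h : Sp u w) : Sp w u := ⟨h.wu, h.uw, h.ww, h.uu⟩

theorem sg_symm {u w : V8 F} (h : Sp u w) : sg (sp_symm h) = (sg h)⁻¹ := by
  rw [eq_inv_iff_mul_eq_one]
  apply Subtype.ext
  apply LinearEquiv.ext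
  intro x
  show (sg (sp_symm h) : V8 F ≃ₗ[F] V8 F) ((sg h : V8 F ≃ₗ[F] V8 F) x) = x
  rw [sg_apply, sg_apply]
  have p4 : polar (plusForm 4 F) u u = 0 := by rw [pl_self, norm_of_sq h.uu, mul_zero]
  have p5 : polar (plusForm 4 F) w w = 0 := by rw [pl_self, norm_of_sq h.ww, mul_zero]
  have p6 : polar (plusForm 4 F) u w = 0 := polar_of_sp h
  have p7 : polar (plusForm 4 F) w u = 0 := by rw [pl_comm]; exact polar_of_sp h
  simp only [pl_add, pl_sub, pl_smul, p4, p5, p6, p7]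
  module

theorem gen_cm {K : Type*} [Group K] {a b y : K} (h : y * (a * b) = b * a) : a * b * a⁻¹ * b⁻¹ = y⁻¹ := by
  have h1 : a * b = y⁻¹ * (b * a) := by rw [← h, inv_mul_cancel_left]
  rw [h1]
  group

/-- the two elements -/
theorem exists_two (hG : Good (plusForm 4 F)) (hE : Env G Ω N) (hσ : Rp (plusForm 4 F) N σ) {x : G}
    (hx : La σ x (rho hG)) {u w : V8 F} (h : Sp u w) (hu : u ≠ 0) (hw : w ≠ 0) :
    ∃ t₁ t₂ : G, t₁ ∈ N ∧ t₂ ∈ N ∧
      t₁ * σ ((sg h : ↥(E (plusForm 4 F))) : P8 F) = σ ((sg h : ↥(E (plusForm 4 F))) : P8 F) * t₁ ∧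
      t₂ * σ ((sg h : ↥(E (plusForm 4 F))) : P8 F) = σ ((sg h : ↥(E (plusForm 4 F))) : P8 F) * t₂ ∧
      ∀ U : Subgroup G, t₁ ∈ U → t₂ ∈ U → σ ((sg h : ↥(E (plusForm 4 F))) : P8 F) ∈ cmm U x := by
  obtain ⟨s₁, hs₁, hk₁⟩ := exists_s hG hu h.uu
  obtain ⟨s₂, hs₂, hk₂⟩ := exists_s hG hw h.ww
  have hmem : ∀ a : P8 F, σ a ∈ N := fun a => by rw [← hσ.range]; exact ⟨a, rfl⟩
  have hn := hE.norm
  set y := σ ((sg h : ↥(E (plusForm 4 F))) : P8 F) with hy
  -- `x` commutes with `y`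
  have hxy : x * y * x⁻¹ = y := by
    rw [hy, hx, H208.SgAut.rho_sg hG h]
  have hc1 : σ (s₁ : P8 F) * y = y * σ (s₁ : P8 F) := by
    rw [hy, ← map_mul, ← map_mul, ← QuotientGroup.mk_mul, hs₁ w h, QuotientGroup.mk_mul]
  have hc2' : σ (s₂ : P8 F) * y = y * σ (s₂ : P8 F) := by
    have h1 := hs₂ u (sp_symm h)
    rw [sg_symm h] at h1
    have h2 : s₂ * sg h = sg h * s₂ := by
      have h3 : Commute s₂ (sg h)⁻¹ := h1
      exact (Commute.inv_right_iff.1 h3)
    rw [hy, ← map_mul, ← map_mul, ← QuotientGroup.mk_mul, h2, QuotientGroup.mk_mul]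
  have hc2 : (x * σ (s₂ : P8 F) * x⁻¹) * y = y * (x * σ (s₂ : P8 F) * x⁻¹) := by
    conv_lhs => rw [← hxy]
    conv_rhs => rw [← hxy]
    calc x * σ (s₂ : P8 F) * x⁻¹ * (x * y * x⁻¹) = x * (σ (s₂ : P8 F) * y) * x⁻¹ := by group
      _ = x * (y * σ (s₂ : P8 F)) * x⁻¹ := by rw [hc2']
      _ = _ := by group
  refine ⟨σ (s₁ : P8 F), x * σ (s₂ : P8 F) * x⁻¹, hmem _, hn.conj_mem _ (hmem _) x, hc1, hc2, ?_⟩
  intro U h1 h2
  -- the automorphisms
  have l₁ : La σ (σ (s₁ : P8 F)) (Psi (plusForm 4 F) (tg _ s₁)) := La.lf.2 (Lf.tg s₁)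
  have l₂ : La σ (σ (s₂ : P8 F)) (Psi (plusForm 4 F) (tg _ s₂)) := La.lf.2 (Lf.tg s₂)
  have ly : La σ y (Psi (plusForm 4 F) (tg _ (sg h))) := La.lf.2 (Lf.tg (sg h))
  have m₁ := l₁.mul ((hx.mul l₁).mul hx.inv).inv
  have m₂ := l₂.mul ((hx.mul l₂).mul hx.inv).inv
  rw [hk₁] at m₁
  rw [hk₂] at m₂
  have m₃ := (hx.mul m₂).mul hx.inv
  rw [rho_conj hG (tri_bG _ _), kap_lG h.ww] at m₃
  set A := σ (s₁ : P8 F) * (x * σ (s₁ : P8 F) * x⁻¹)⁻¹ with hA
  set C := x * (σ (s₂ : P8 F) * (x * σ (s₂ : P8 F) * x⁻¹)⁻¹) * x⁻¹ with hC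
  have m₄ := ((m₁.mul m₃).mul m₁.inv).mul m₃.inv
  have hcm := comm_bG_rG h
  have hcm' := congrArg (Psi (plusForm 4 F)) hcm
  rw [map_mul, map_mul, map_mul] at hcm'
  rw [gen_cm hcm'] at m₄
  have e : A * C * A⁻¹ * C⁻¹ = y⁻¹ := La.eq hE hσ m₄ ly.inv
  have hA' : A ∈ cmm U x := by
    have := mem_cmm (U := U) (x := x) h1
    have e1 : A = σ (s₁ : P8 F) * x * (σ (s₁ : P8 F))⁻¹ * x⁻¹ := by rw [hA]; group
    rwa [← e1] at this
  have hC' : C ∈ cmm U x := by
    have := mem_cmm (U := U) (x := x) h2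
    have e1 : C = x * σ (s₂ : P8 F) * x⁻¹ * x * (x * σ (s₂ : P8 F) * x⁻¹)⁻¹ * x⁻¹ := by rw [hC]; group
    rwa [← e1] at this
  have h3 : A * C * A⁻¹ * C⁻¹ ∈ cmm U x :=
    mul_mem (mul_mem (mul_mem hA' hC') (inv_mem hA')) (inv_mem hC')
  rw [e] at h3
  exact inv_mem_iff.1 h3

/-- the class of `sg h` is not trivial -/
theorem sg_ne_one (hG : Good (plusForm 4 F)) {u w : V8 F} (h : Sp u w) (hi : LinearIndependent F ![u, w]) :
    ((sg h : ↥(E (plusForm 4 F))) : P8 F) ≠ 1 := by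
  intro h1
  obtain ⟨c, hc, hc'⟩ := sign_of_mk_eq hG (g := 1) (h := sg h) (by rw [h1]; rfl)
  have hne := LinearIndependent.pair_iff.1 hi
  have hu : u ≠ 0 := by
    rintro rfl
    have := hne 1 0 (by simp)
    exact one_ne_zero this.1
  have e1 := hc' u
  rw [sg_apply] at e1
  have p4 : polar (plusForm 4 F) u u = 0 := by rw [pl_self, norm_of_sq h.uu, mul_zero]
  have p7 : polar (plusForm 4 F) w u = 0 := by rw [pl_comm]; exact polar_of_sp h
  rw [p4, p7, zero_smul, zero_smul, sub_zero, add_zero] at e1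
  have hc1 : c = 1 := by
    have e2 : (c - 1) • u = 0 := by
      rw [sub_smul, one_smul]
      exact sub_eq_zero.2 e1.symm
    rcases smul_eq_zero.1 e2 with h2 | h2
    · exact sub_eq_zero.1 h2
    · exact absurd h2 hu
  obtain ⟨z, hz⟩ : ∃ z, polar (plusForm 4 F) u z ≠ 0 := by
    by_contra hcon
    push Not at hcon
    exact hu (polar_plusForm_nondeg 4 u hcon)
  have e3 := hc' z
  rw [sg_apply, hc1, one_smul] at e3
  have e4 : (-(polar (plusForm 4 F) w z)) • u + polar (plusForm 4 F) u z • w = 0 := by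
    have e5 : z + (polar (plusForm 4 F) u z • w - polar (plusForm 4 F) w z • u) = z := e3
    have e6 := add_eq_left.1 e5
    rw [neg_smul, neg_add_eq_sub]
    exact e6
  exact hz (hne _ _ e4).2

/-- **Box iK**: no cover `{sg h} ∪ {x₁}` -/
theorem kill_i [Nonempty Ω] (hG : Good (plusForm 4 F)) (hE : Env G Ω N) (hσ : Rp (plusForm 4 F) N σ) {x : G}
    (hx : La σ x (rho hG)) {u w : V8 F} (h : Sp u w) (hi : LinearIndependent F ![u, w])
    (hcov : ∀ ω : Ω, σ ((sg h : ↥(E (plusForm 4 F))) : P8 F) • ω = ω ∨ x • ω = ω) : False := by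
  have hne := LinearIndependent.pair_iff.1 hi
  have hu : u ≠ 0 := by
    rintro rfl
    exact one_ne_zero (hne 1 0 (by simp)).1
  have hw : w ≠ 0 := by
    rintro rfl
    exact one_ne_zero (hne 0 1 (by simp)).2
  obtain ⟨t₁, t₂, -, -, h1, h2, h3⟩ := exists_two hG hE hσ hx h hu hw
  refine not_cov_one (U := Subgroup.centralizer {σ ((sg h : ↥(E (plusForm 4 F))) : P8 F)}) hE hcov ?_ ?_ (h3 _ ?_ ?_)
  · intro g hg
    exact (Subgroup.mem_centralizer_singleton_iff.1 hg)
  · intro h4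
    exact sg_ne_one hG h hi (hσ.inj (by rw [h4, map_one]))
  · exact Subgroup.mem_centralizer_singleton_iff.2 h1
  · exact Subgroup.mem_centralizer_singleton_iff.2 h2

end kill

end Cfsg.Agent.H103.RC
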